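import Cfsg.Agent.Omega.NOThreeL.QWR.Sw.Base
import Cfsg.Agent.Omega.OM.SwapV.Lev

/-!
# THEOREM SW at the top level `(Q, V)`, `q = 2`: the abstract frame `CrA`

* `LtV.norm` : `N_G(B)` permutes the `Z i`;
* **`LtV.crA`** : `FrL (BK S Q) Q V V (ZK S Q) L W Z C A 2` and `OffR S V Q` give
  `CrA S (nxt S Q) (BK S Q) V (ZK S Q) L W Z C A`.
-/

set_option autoImplicit false
set_option linter.unusedSectionVars false

namespace Cfsg.Agent.Omega.NOThreeL.QWR.Sw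

open Subgroup Cfsg Cfsg.Agent.ZN.ChoiceBase Cfsg.Agent.ZN.ChoiceSit
open Cfsg.Agent.ZN (jj zj bau zc zl o2)
open Cfsg.Agent.Omega.NO3S.Level (nxt)
open Cfsg.Agent.Omega.OM.SwapK (BK ZK)
open Cfsg.Agent.Omega.OM.SwapV (Quiet Pair CrA PF)
open Cfsg.Agent.Omega.OM.Lev.Uni (FrL)

universe u

variable {G : Type u} [Group G] [Finite G] {S : Sylow 2 G} {V Q : Subgroup G}
  {ι : Type} [Finite ι] {L W Z C A : ι → Subgroup G}

namespace LtV

variable (h : LtV S V Q)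
include h

/-- **(U1)**, any `q` -/
theorem norm {q : ℕ} (fr : FrL (BK (S : Subgroup G) Q) Q V V (ZK (S : Subgroup G) Q) L W Z C A q) {g : G}
    (hg : g ∈ normalizer (BK (S : Subgroup G) Q : Set G)) :
    cj g V = V ∧ ∀ i, ∃ j, cj g (Z i) = Z j ∧ cj g (W i) ≤ W j ⊔ ZK (S : Subgroup G) Q :=
  fr.norm_of hg (mem_normalizer_iff_cj.2 (h.nV hg))

/-- **The abstract frame of THEOREM SW at the top level.** -/
theorem crA (fr : FrL (BK (S : Subgroup G) Q) Q V V (ZK (S : Subgroup G) Q) L W Z C A 2) (ho : OffR S V Q) :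
    CrA S (nxt (S : Subgroup G) Q) (BK (S : Subgroup G) Q) V (ZK (S : Subgroup G) Q) L W Z C A where
  lb := h.lb
  wc := h.wcB
  zcS := h.zcS
  zcB := fr.zcB
  blk := fr.blk
  cardZ := fr.cardZ
  el := fr.el
  VB := h.VB
  ZJV := fr.ZJV
  WV := fr.WV
  CV := fr.CV
  dir := fr.dir
  C0 := fr.C0
  WjC := fr.WjC
  split := fun i _ hz => fr.split_ZJ i hz
  LC := fr.LC
  mov := fun i => by
    have h2 := fr.Ane i
    push Not at h2
    obtain ⟨a, ha, v, hv, hne⟩ := h2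
    exact ⟨a, fr.AB i ha, ⟨v, hv, hne⟩, fr.AC i a ha⟩
  conjZ := fun r _ hx => OM.SwapL.conj_ZJ fr r hx
  norm := fun _ hg => h.norm fr hg
  char2 := h.char2
  low := h.low
  noff := h.noff
  fixPt := h.fixPt ho
  fam := fun M T F hp hD hZM hTM => by
    obtain ⟨𝓐, hA⟩ := h.fam ho hp hD hZM hTM
    refine ⟨𝓐, hA.fam, hA.nJ, hA.XB, fun X hX hXT i hi => ?_⟩
    rcases hA.act X hX hXT with h1 | h1
    · obtain ⟨a, ha, x, hx, hne⟩ := hi
      exact absurd (h1 a ha x (fr.WV i hx)) hne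
    · exact OM.SwapL.hat fr (hA.XB X hX hXT) (fun F' h2 h3 => h1.max F' h3 h2) hi
  WC := fr.WC
  AB := fr.AB
  Ane := fr.Ane
  AC := fr.AC
  fmem := fun _ hv hA => fr.mem_ZJ_of hv hA
  fnWr := fun _ _ hi _ hl _ hx => OM.SwapL.nWr fr hi hl hx
  fstep := fun i _ hv => OM.SwapL.step fr i hv
  fkeep := fun _ _ hij _ hl _ hv hj => OM.SwapL.keep fr hij hl hv hj

end LtV

end Cfsg.Agent.Omega.NOThreeL.QWR.Sw
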