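import Cfsg.Agent.Omega.OM.SwapV.Q.Main
import Cfsg.Agent.Omega.OM.SwapV.Q.Lev

/-!
# (Om) for `q ≥ 4` at an arbitrary weakly closed level: the ground frame

* `AbQ S K B V ZJ X Q L W Z C A q` : `FrL` over `(B, Q, V, X, Z_J)`, `LB`, `B` weakly closed, `N_G(B) ≤ N_G(X)`, the fixed
  point property and the family of offenders `fam` (each member acts trivially on `V` or is a best offender on `X`);
* `AbQ.gr` : it is a ground frame `Gr`; `AbQ.le_of_char2` : (Om).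
-/

set_option autoImplicit false
set_option linter.unusedSectionVars false

namespace Cfsg.Agent.Omega.NOThreeL.QWR.Sw

open Subgroup Cfsg Cfsg.Agent.ZN.ChoiceBase Cfsg.Agent.ZN.ChoiceSit
open Cfsg.Agent.ZN (jj zj bau zc zl o2)
open Cfsg.Agent.MinSimple.MinParabolic (IsMinPar)
open Cfsg.Agent.Omega.NO3S.Level (lev Lev nxt)
open Cfsg.Agent.Omega.OM.LevD (LB)
open Cfsg.Agent.Omega.OM.Lev.Uni (FrL Best)
open Cfsg.Agent.Omega.OM.Swap.Fam (Fm)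
open Cfsg.Agent.Omega.OM.SwapV.Q

universe u

variable {G : Type u} [Group G] [Finite G]

/-- The frame over an arbitrary level, any `q`. -/
structure AbQ {ι : Type} (S : Sylow 2 G) (K B V ZJ X Q : Subgroup G) (L W Z C A : ι → Subgroup G) (q : ℕ) : Prop where
  lb : LB S K B ZJ
  wc : OM.WeakCl.WC B
  nX : normalizer (B : Set G) ≤ normalizer (X : Set G)
  fr : FrL B Q V X ZJ L W Z C A q
  char2 : IsCharacteristicTwoType G
  low : V ≤ o2 (centralizer (zc (S : Subgroup G) : Set G))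
  noff : ∀ T : Subgroup G, IsPGroup 2 T → B ≤ T → ∀ f : G, cj f V ≤ T → V ≤ cj f T →
    ∀ x ∈ V, ∀ y ∈ V, x * (f * y * f⁻¹) = f * y * f⁻¹ * x
  perm : ∀ s ∈ (S : Subgroup G), ∀ i j, cj s (Z i) = Z j → cj s (W i) = W j ∧ cj s (C i) = C j
  co : ∀ i, ∃ (F : Type) (_ : Field F) (_ : Finite F) (_ : CharP F 2), Nat.card F = q ∧
    ∃ e : G → F × F, Cor F (S : Subgroup G) B L W Z i e
  fixPt : ∀ T Y : Subgroup G, OM.SwapV.Quiet K B T Y → ZJ ⊓ zc (o2 Y) ≤ centralizer (MinSimple.VModule.oddGen Y : Set G)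
  fam : ∀ M T F : Subgroup G, PairV B V ZJ M T F → centralizer (ZJ : Set G) ≤ M → T ≤ M →
    normalizer (ZJ : Set G) ≤ M → ∃ 𝓐 : Set (Subgroup G),
      (∀ Λ : Subgroup G, IsElementaryAbelian 2 Λ → Λ ≤ F → F ≤ normalizer (Λ : Set G) →
        Λ ≤ NoFF.Basic.V V F → Fm F Λ 𝓐) ∧
      (∃ E ∈ 𝓐, E ≤ T ∧ ¬ E ≤ o2 F) ∧
      ∀ E ∈ 𝓐, E ≤ T → E ≤ B ∧ ((∀ a ∈ E, ∀ v ∈ V, a * v = v * a) ∨ Best X E)

section line

variable {ι : Type} [Finite ι] {S : Sylow 2 G} {K B V ZJ X Q : Subgroup G} {L W Z C A : ι → Subgroup G} {q : ℕ}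

/-- `Z_J ≤ ⟨Z i⟩` -/
theorem AbQ.ZJ_le (h : AbQ S K B V ZJ X Q L W Z C A q) : ZJ ≤ ⨆ i, Z i := OM.SwapV.Q.ZJ_le_sup h.fr

/-- **The frame is a ground frame.** -/
theorem AbQ.gr (h : AbQ S K B V ZJ X Q L W Z C A q) : Gr S K B V ZJ L W Z C A (fun _ => q) where
  lb := h.lb
  wc := h.wc
  char2 := h.char2
  VB := h.fr.VQ.trans h.fr.QB
  el := h.fr.el
  ZJV := h.fr.ZJV
  WV := h.fr.WV
  ZW := fun i => (h.fr.blk i).ZV
  Zle := h.fr.Z_le
  cardZ := h.fr.cardZ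
  cardW := fun i => by rw [(h.fr.blk i).card, h.fr.cardZ i]
  dir := h.fr.dir
  C0 := h.fr.C0
  WjC := h.fr.WjC
  sup := h.ZJ_le
  BL := fun i => (h.fr.blk i).BL
  LC := h.fr.LC
  AB := h.fr.AB
  AC := h.fr.AC
  root := fun i v hv hvZ z hz => OM.SWQ.ModQ.root h.fr hv hvZ hz
  conjZ := fun r x hx => OM.SWQ.ModQ.conj_ZJ h.fr r hx
  norm := fun g hg => by
    have h1 := h.fr.norm_of hg (h.nX hg)
    exact ⟨h1.1, fun i => by obtain ⟨j, hj, -⟩ := h1.2 i; exact ⟨j, hj⟩⟩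
  perm := h.perm
  low := h.low
  noff := h.noff
  fixPt := h.fixPt
  fam := fun M T F hp hD hTM hZM => by
    obtain ⟨𝓐, h1, h2, h3⟩ := h.fam M T F hp hD hTM hZM
    refine ⟨𝓐, h1, h2, fun E hE hET => ⟨(h3 E hE hET).1, fun i => ?_⟩⟩
    obtain ⟨hEB, h4 | h4⟩ := h3 E hE hET
    · exact Or.inl fun a ha x hx => h4 a ha x (h.fr.WV i hx)
    · exact OM.SWQ.HThree.h2 h.fr hEB h4 i
  co := h.co

/-- **(Om), `q ≥ 4`, over an arbitrary level.** -/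
theorem AbQ.le_of_char2 (h : AbQ S K B V ZJ X Q L W Z C A q) [Nonempty ι] (hq : 4 ≤ q) {M H : Subgroup G}
    (hBM : BMV K B M) (hL : ∀ i, L i ≤ M) (hD : centralizer (ZJ : Set G) ≤ M) (hN : normalizer (B : Set G) ≤ M)
    (hB : B ≤ H) (hc : H ⊓ centralizer (o2 H : Set G) ≤ o2 H) : H ≤ M :=
  h.gr.le_of_char2 ‹_› (fun _ => hq) (fun _ _ h => h) hBM hL hD hN hB hc

end line

end Cfsg.Agent.Omega.NOThreeL.QWR.Sw
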