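import Cfsg.Agent.Omega.NOThreeL.QWR.Sw.Two
import Cfsg.Agent.Omega.NOThreeL.QWR.Sw.Q

/-!
# THEOREM SW at the top level `(Q, V)`, `q ≥ 4`: the ground frame `Gr`

* `LtV.famQ` : the families of offenders of the pairs `PairV` of characteristic 2;
* **`LtV.abQ`** : `FrL (BK S Q) Q V V (ZK S Q) L W Z C A q`, `OffR S V Q`, `perm` and the coordinates give `AbQ`, so `Gr`.
-/

set_option autoImplicit false
set_option linter.unusedSectionVars false

namespace Cfsg.Agent.Omega.NOThreeL.QWR.Sw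

open Subgroup Cfsg Cfsg.Agent.ZN.ChoiceBase Cfsg.Agent.ZN.ChoiceSit
open Cfsg.Agent.ZN (jj zj bau zc zl o2)
open Cfsg.Agent.MinSimple.MinParabolic (IsMinPar)
open Cfsg.Agent.MinSimple.VModule (oddGen oddGen_le)
open Cfsg.Agent.Omega.NO1.BestOff (Best)
open Cfsg.Agent.Omega.NO3S.Level (lev Lev lev_isLev BO nxt)
open Cfsg.Agent.Omega.OM.LevD (LB)
open Cfsg.Agent.Omega.OM.SwapK (WL BK ZK best_of_le)
open Cfsg.Agent.Omega.OM.Swap.Fam (Fm BF fm_AA fm_best)
open Cfsg.Agent.Omega.OM.SwapV.Q (PairV Cor Gr pair_nK pair_minPar)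
open Cfsg.Agent.Omega.OM.Lev.Uni (FrL)

universe u

variable {G : Type u} [Group G] [Finite G]

omit [Finite G] in
theorem comm_of_odd {x r : G} {R : Subgroup G} (hR : IsPGroup 2 R) (ho : Odd (orderOf x))
    (hc : x * r * x⁻¹ * r⁻¹ ∈ R) (hcx : x * (x * r * x⁻¹ * r⁻¹) = (x * r * x⁻¹ * r⁻¹) * x) : x * r = r * x := by
  set c := x * r * x⁻¹ * r⁻¹ with hcd
  have hxr : x * r = c * r * x := by rw [hcd]; group
  have key : ∀ k : ℕ, x ^ k * r = c ^ k * r * x ^ k := by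
    intro k
    induction k with
    | zero => simp
    | succ k ih =>
      have hck : x * c ^ k = c ^ k * x := (show Commute x c from hcx).pow_right k
      calc x ^ (k + 1) * r = x * (x ^ k * r) := by rw [pow_succ', mul_assoc]
        _ = x * c ^ k * r * x ^ k := by rw [ih]; simp only [mul_assoc]
        _ = c ^ k * (x * r) * x ^ k := by rw [hck]; simp only [mul_assoc]
        _ = c ^ (k + 1) * r * x ^ (k + 1) := by rw [hxr, pow_succ, pow_succ']; simp only [mul_assoc]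
  have h1 := key (orderOf x)
  rw [pow_orderOf_eq_one, one_mul, mul_one] at h1
  have h2 : c ^ orderOf x = 1 := by
    have h3 := congrArg (fun t => t * r⁻¹) h1
    simpa using h3.symm
  have h4 : orderOf c ∣ orderOf x := orderOf_dvd_of_pow_eq_one h2
  obtain ⟨m, hm⟩ := hR ⟨c, hc⟩
  have hm' : c ^ 2 ^ m = 1 := by
    have := congrArg Subtype.val hm
    simpa using this
  have h5 : orderOf c ∣ 2 ^ m := orderOf_dvd_of_pow_eq_one hm'
  have h6 : Nat.Coprime (orderOf x) (2 ^ m) := Nat.Coprime.pow_right m (Nat.Coprime.symm (by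
    rw [Nat.coprime_two_left]; exact ho))
  have h7 : orderOf c = 1 := Nat.eq_one_of_dvd_coprimes h6 h4 h5
  rw [orderOf_eq_one_iff] at h7
  rw [hxr, h7, one_mul]

theorem isPGroup_of_odd {X : Subgroup G} (h : ∀ x ∈ X, Odd (orderOf x) → x = 1) : IsPGroup 2 X := by
  rintro ⟨x, hx⟩
  obtain ⟨k, m, hm, he⟩ := Nat.exists_eq_two_pow_mul_odd (n := orderOf x) (orderOf_pos x).ne'
  refine ⟨k, Subtype.ext ?_⟩
  have h1 : orderOf (x ^ 2 ^ k) = m := by
    rw [orderOf_pow, he]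
    have : Nat.gcd (2 ^ k * m) (2 ^ k) = 2 ^ k := by simp
    rw [this, Nat.mul_div_cancel_left m (by positivity)]
  have h2 := h (x ^ 2 ^ k) (pow_mem hx _) (by rw [h1]; exact hm)
  simpa using h2

omit [Finite G] in
theorem eq_one_of_odd {X : Subgroup G} (h : IsPGroup 2 X) {x : G} (hx : x ∈ X) (ho : Odd (orderOf x)) : x = 1 := by
  obtain ⟨m, hm⟩ := h ⟨x, hx⟩
  have hm' : x ^ 2 ^ m = 1 := by
    have := congrArg Subtype.val hm
    simpa using this
  have h5 : orderOf x ∣ 2 ^ m := orderOf_dvd_of_pow_eq_one hm'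
  have h6 : Nat.Coprime (orderOf x) (2 ^ m) := Nat.Coprime.pow_right m (Nat.Coprime.symm (by
    rw [Nat.coprime_two_left]; exact ho))
  exact orderOf_eq_one_iff.1 (Nat.eq_one_of_dvd_coprimes h6 dvd_rfl h5)

namespace LtV

variable {S : Sylow 2 G} {V Q : Subgroup G} (h : LtV S V Q)
include h

/-- `F` has characteristic 2. -/
theorem c2_of (hV1 : V ≠ ⊥) {T F : Subgroup G} (hT : Syl T F) (hB : BK (S : Subgroup G) Q ≤ T) (hV : V ≤ o2 F) :
    F ⊓ centralizer (o2 F : Set G) ≤ o2 F := by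
  have hV2 : IsPGroup 2 V := (isPGroup_o2 F).to_le hV
  have hc := OM.Swap.char2_cent h.char2 hV2 hV1
  set R := o2 (centralizer (V : Set G)) with hR
  have hR2 : IsPGroup 2 R := isPGroup_o2 _
  have hRV : R ≤ centralizer (V : Set G) := o2_le _
  -- `R ≤ B`
  have hSV : (S : Subgroup G) ≤ normalizer (V : Set G) := fun s hs =>
    mem_normalizer_iff_cj.2 (h.nV (h.lb.two_le S.isPGroup' h.lb.BS hs))
  have hSR : (S : Subgroup G) ≤ normalizer (R : Set G) := fun s hs => by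
    rw [mem_normalizer_iff_cj, hR, ← o2_cj, cj_centralizer, cj_eq_of_mem_normalizer (hSV hs)]
  have hRS : R ≤ (S : Subgroup G) := by
    have h1 : IsPGroup 2 ((S : Subgroup G) ⊔ R : Subgroup G) := S.isPGroup'.to_sup_of_normal_right' hR2 hSR
    have h2 := S.is_maximal' h1 le_sup_left
    exact le_sup_right.trans h2.le
  have hRB : R ≤ BK (S : Subgroup G) Q := le_inf hRS (hRV.trans (centralizer_le h.ZV))
  have hRF : R ≤ F := (hRB.trans hB).trans hT.1
  -- `N = C_F(O₂(F))`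
  set N := F ⊓ centralizer (o2 F : Set G) with hN
  have hFN : F ≤ normalizer (N : Set G) := fun f hf => by
    rw [mem_normalizer_iff_cj, hN, cj_inf, cj_eq_of_mem_normalizer (le_normalizer hf), cj_centralizer,
      cj_eq_of_mem_normalizer (Cfsg.Agent.MinSimple.VModule.le_normalizer_o2 F hf)]
  have hNV : N ≤ centralizer (V : Set G) := inf_le_right.trans (centralizer_le hV)
  have hNR : N ≤ normalizer (R : Set G) := hNV.trans (Cfsg.Agent.MinSimple.VModule.le_normalizer_o2 _)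
  -- `R ∩ N ≤ O₂(F)`
  have hRN : R ⊓ N ≤ o2 F := by
    have h1 : R ⊓ N ≤ o2 N := le_o2 (hR2.to_le inf_le_left) inf_le_right fun y hy => by
      rw [mem_normalizer_iff_cj, cj_inf, cj_eq_of_mem_normalizer (hNR hy), cj_eq_of_mem_normalizer (le_normalizer hy)]
    have h2 : o2 N ≤ o2 F := le_o2 (isPGroup_o2 N) ((o2_le N).trans inf_le_left) fun f hf => by
      rw [mem_normalizer_iff_cj, ← o2_cj, cj_eq_of_mem_normalizer (hFN hf)]
    exact h1.trans h2
  refine le_o2 (isPGroup_of_odd fun x hx ho => ?_) inf_le_left hFN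
  have hxR : x ∈ centralizer (R : Set G) := by
    rw [mem_centralizer_iff]
    intro r hr
    have hcR : x * r * x⁻¹ * r⁻¹ ∈ R := mul_mem ((mem_normalizer_iff.1 (hNR hx) r).1 hr) (inv_mem hr)
    have hcN : x * r * x⁻¹ * r⁻¹ ∈ N := by
      have h1 : r * x⁻¹ * r⁻¹ ∈ N := (mem_normalizer_iff.1 (hFN (hRF hr)) x⁻¹).1 (inv_mem hx)
      have h2 := mul_mem hx h1
      have e : x * (r * x⁻¹ * r⁻¹) = x * r * x⁻¹ * r⁻¹ := by group
      rwa [e] at h2
    have h3 := hRN ⟨hcR, hcN⟩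
    exact (comm_of_odd hR2 ho hcR (mem_centralizer_iff.1 hx.2 _ h3).symm).symm
  have h4 : x ∈ R := hc ⟨hNV hx, hxR⟩
  exact eq_one_of_odd hR2 h4 ho

/-- a pair lies in `C_G(Ω₁Z(S)^g)`, `g ∈ N_G(B)` -/
theorem pairV_le {M T F : Subgroup G} (hp : PairV (BK (S : Subgroup G) Q) V (ZK (S : Subgroup G) Q) M T F) :
    ∃ g ∈ normalizer (BK (S : Subgroup G) Q : Set G), F ≤ centralizer (cj g (zc (S : Subgroup G)) : Set G) := by
  obtain ⟨g, hg, -, hz⟩ := h.exists_cj hp.syl.2.1 hp.BT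
  refine ⟨g, hg, le_centralizer_iff.1 (le_trans (le_inf ?_ ?_) hp.fix)⟩
  · have h1 := cj_mono g h.zcS
    rwa [h.nZK hg] at h1
  · intro x hx
    exact mem_centralizer_iff.2 fun y hy => (mem_zc.1 (hz hx)).2.2 y (o2_le_syl hp.syl hy)

/-- **The families of offenders of the pairs `PairV`.** -/
theorem famQ (ho : OffR S V Q) {M T F : Subgroup G}
    (hp : PairV (BK (S : Subgroup G) Q) V (ZK (S : Subgroup G) Q) M T F)
    (hcF : F ⊓ centralizer (o2 F : Set G) ≤ o2 F)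
    (hD : centralizer (ZK (S : Subgroup G) Q : Set G) ≤ M) (hTM : T ≤ M)
    (hZM : normalizer (ZK (S : Subgroup G) Q : Set G) ≤ M) :
    ∃ 𝓐 : Set (Subgroup G),
      (∀ Λ : Subgroup G, IsElementaryAbelian 2 Λ → Λ ≤ F → F ≤ normalizer (Λ : Set G) →
        Λ ≤ NoFF.Basic.V V F → Fm F Λ 𝓐) ∧
      (∃ E ∈ 𝓐, E ≤ T ∧ ¬ E ≤ o2 F) ∧
      ∀ E ∈ 𝓐, E ≤ T → E ≤ BK (S : Subgroup G) Q ∧
        ((∀ a ∈ E, ∀ v ∈ V, a * v = v * a) ∨ OM.Lev.Uni.Best V E) := by
  classical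
  have hT2 := hp.syl.2.1
  have hKT : nxt (S : Subgroup G) Q ≤ T := h.lb.KB.trans hp.BT
  have h0T : jj (S : Subgroup G) ≤ T := h.jB.trans hp.BT
  have hmp : IsMinPar T F := pair_minPar h.lb hp hZM
  have hnK := pair_nK h.lb hp hZM
  have hel := h.elab_VF hp.syl hp.BT hp.VO
  have hBe : ∀ {U E : Subgroup G}, Best U E → OM.Lev.Uni.Best U E := fun hb F' h1 h2 => hb.max F' h2 h1
  by_cases hj : jj (S : Subgroup G) ≤ o2 F
  swap
  · -- stage `-1`
    have hjT : jj T = jj (S : Subgroup G) := MinSimple.EmptyTI.jj_eq S hT2 h0T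
    have hX2 : ∀ X ∈ AA F, X ≤ T → X ≤ Q := fun X hX hXT => by
      have h1 := le_jj (OM.Swap.AA_of_le hX hXT hp.syl.1)
      rw [hjT] at h1
      exact h1.trans h.wl.lev.jjle
    refine ⟨AA F, fun Λ hΛ hΛF hn _ => fm_AA hΛ hΛF hn, ?_, fun X hX hXT => ⟨(hX2 X hX hXT).trans h.QB,
      Or.inl fun a ha v hv => h.cV (hX2 X hX hXT ha) hv⟩⟩
    by_contra hcon
    push Not at hcon
    apply hj
    rw [← hjT, Cfsg.Agent.ZN.ChoiceBase.jj_eq]
    exact sSup_le fun X hX => hcon X (OM.Swap.AA_of_syl hp.syl hX) hX.2.1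
  by_cases hQ : Q ≤ o2 F
  · -- the top stage
    have hX := OM.SwapL.zc_elab Q
    have hFN : F ≤ normalizer (zc Q : Set G) :=
      (Cfsg.Agent.MinSimple.VModule.le_normalizer_o2 F).trans
        ((h.wl.norm_T (isPGroup_o2 F) hQ).trans (NO3S.Level.normalizer_le_zc _))
    have hX1 : ∀ X ∈ BF F (zc Q), X ≤ T → X ≤ nxt (S : Subgroup G) Q := fun X hXA hXT =>
      h.wl.le_nxt_of_best hT2 hKT hXT hXA.2.2
    refine ⟨BF F (zc Q), fun Λ hΛ hΛF hn hle => fm_best hX hFN ?_ hn, ?_,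
      fun X hXA hXT => ⟨(hX1 X hXA hXT).trans h.lb.KB, Or.inr (hBe (by rw [← h.zcQ]; exact hXA.2.2))⟩⟩
    · refine hle.trans (NoFF.Basic.V_le fun f hf => ?_)
      have h1 := cj_mono f h.zcQ.ge
      rwa [cj_eq_of_mem_normalizer (hFN hf)] at h1
    · by_contra hcon
      push Not at hcon
      apply hnK
      rw [← h.wl.nxt_T hT2 hKT]
      have : Fact (Nat.Prime 2) := ⟨Nat.prime_two⟩
      have hNn : F ≤ normalizer ((F ⊓ centralizer (zc Q : Set G) : Subgroup G) : Set G) := by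
        intro f hf
        rw [mem_normalizer_iff_cj, cj_inf, cj_centralizer, cj_eq_of_mem_normalizer (hFN hf),
          cj_eq_of_mem_normalizer (le_normalizer hf)]
      refine sup_le ?_ (sSup_le fun X hX' => hcon X ⟨hX'.1.trans hp.syl.1, hT2.to_le hX'.1, hX'.2⟩ hX'.1)
      rcases hmp.sup_eq_or_inf_le (p := 2) hT2 (syl_not_dvd hp.syl)
        (N := F ⊓ centralizer (zc Q : Set G)) inf_le_left hNn with h1 | h1
      · exfalso
        apply hp.nM
        rw [← h1]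
        refine sup_le ((inf_le_right.trans (centralizer_le ?_)).trans hD) hTM
        have h2 : ZK (S : Subgroup G) Q ≤ zc Q := by rw [h.zcQ]; exact h.ZV
        exact_mod_cast h2
      · refine le_trans (fun x hx => ?_) h1
        exact ⟨hx.1, hp.syl.1 hx.1, hx.2⟩
  · -- below the top
    obtain ⟨g, hg, hFz⟩ := h.pairV_le hp
    have hmv : ¬ oddGen F ≤ centralizer (ZK (S : Subgroup G) Q : Set G) := by
      intro hle
      apply hp.nM
      rw [← OM.Dich.oddGen_sup_syl hp.syl]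
      exact sup_le (hle.trans hD) hTM
    obtain ⟨A, hA, hbA, hn⟩ := h.off ho hp.syl hp.BT hmp hcF hFz hj hQ hmv
    have hc : ∀ x ∈ NoFF.Basic.V V F, ∀ y ∈ NoFF.Basic.V V F, x * y = y * x := fun x hx y hy =>
      SQ1.Bau.elem_comm hel x hx y hy
    refine ⟨BF F (NoFF.Basic.V V F), fun Λ _ _ hn hle => fm_best hel OmThm.XD.X_le_normalizer_W hle hn,
      ⟨A, ⟨hA.trans hp.syl.1, hT2.to_le hA, hbA⟩, hA, hn⟩, fun X hX hXT => ⟨?_, ?_⟩⟩
    · have h1 : Best (zc Q) X := best_of_le hc hX.2.2 (by rw [h.zcQ]; exact V_le_VF V F)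
      exact (h.wl.le_nxt_of_best hT2 hKT hXT h1).trans h.lb.KB
    · exact Or.inr (hBe (best_of_le hc hX.2.2 (V_le_VF V F)))

section fr

variable {ι : Type} [Finite ι] {L W Z C A : ι → Subgroup G} {q : ℕ}

omit h in
theorem V_ne [Nonempty ι] {B Q V X ZJ : Subgroup G} (fr : FrL B Q V X ZJ L W Z C A q) : V ≠ ⊥ := by
  obtain ⟨i⟩ := ‹Nonempty ι›
  intro e
  have h1 := (fr.blk i).card
  have h2 : W i = ⊥ := by rw [eq_bot_iff, ← e]; exact fr.WV i
  have h3 : Z i = ⊥ := by rw [eq_bot_iff, ← h2]; exact (fr.blk i).ZV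
  rw [h2, h3, Subgroup.card_bot] at h1
  have := (fr.blk i).one
  omega

/-- **The frame `AbQ` (so the ground frame `Gr`) at the top level.** -/
theorem abQ [Nonempty ι] (fr : FrL (BK (S : Subgroup G) Q) Q V V (ZK (S : Subgroup G) Q) L W Z C A q)
    (ho : OffR S V Q)
    (perm : ∀ s ∈ (S : Subgroup G), ∀ i j, cj s (Z i) = Z j → cj s (W i) = W j ∧ cj s (C i) = C j)
    (co : ∀ i, ∃ (F : Type) (_ : Field F) (_ : Finite F) (_ : CharP F 2), Nat.card F = q ∧
      ∃ e : G → F × F, Cor F (S : Subgroup G) (BK (S : Subgroup G) Q) L W Z i e) :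
    AbQ S (nxt (S : Subgroup G) Q) (BK (S : Subgroup G) Q) V (ZK (S : Subgroup G) Q) V Q L W Z C A q where
  lb := h.lb
  wc := h.wcB
  nX := fun _ hg => mem_normalizer_iff_cj.2 (h.nV hg)
  fr := fr
  char2 := h.char2
  low := h.low
  noff := h.noff
  perm := perm
  co := co
  fixPt := h.fixPt ho
  fam := fun _ _ _ hp hD hTM hZM => h.famQ ho hp (h.c2_of (V_ne fr) hp.syl hp.BT hp.VO) hD hTM hZM

end fr

end LtV

end Cfsg.Agent.Omega.NOThreeL.QWR.Sw
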